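import Groth.Agent.Lib.InfAutMod3.Main

/-!
# The trivial first-order thickening
-/

set_option autoImplicit false
set_option linter.style.haveILetI false
set_option backward.isDefEq.respectTransparency false
set_option backward.isDefEq.respectTransparency.types false

universe u

open CategoryTheory CategoryTheory.Limits AlgebraicGeometry IsLocalRing Opposite

namespace Groth.Agent.InfAutMod3

open ArtFun ArtFun.Art HilbRS3 HilbObs3 HomTan3

variable {k : Type u} [Field k] {X : Scheme.{u}} {x : X ⟶ Art.specPt k}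

theorem exists_dual {Xe : Scheme.{u}} (q : Xe ⟶ X) (p : Xe ⟶ Art.spec (dual k k : Art k k))
    (hsq : IsPullback q p x (specOver (dual k k))) (i : X ⟶ Xe) (hip : i ≫ p = x ≫ specRes (dual k k)) :
    ∃ e : Γ(Xe, ⊤), Dual q e ∧ (∀ V : X.Opens, i.appLE ⊤ V le_top e = 0) ∧
      ∀ (W : Xe.Opens) (V : X.Opens) (h : V ≤ i ⁻¹ᵁ W),
        i.appLE W V h (Xe.presheaf.map (homOfLE (le_top : W ≤ ⊤)).op e) = 0 := by
  let e : Γ(Xe, ⊤) := ThickAff3.str p ⊤ (HomTan3.eps k)
  have he : ∀ W : Xe.Opens, Xe.presheaf.map (homOfLE (le_top : W ≤ ⊤)).op e = ThickAff3.str p W (HomTan3.eps k) :=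
    fun W => ThickAff3.res_str p le_top _
  have hi : ∀ V : X.Opens, i.appLE ⊤ V le_top e = 0 := fun V => by
    have h1 : p.appLE ⊤ ⊤ le_top ≫ i.appLE ⊤ V le_top =
        (specRes (dual k k : Art k k)).appLE ⊤ ⊤ le_top ≫ x.appLE ⊤ V le_top := by
      rw [Scheme.Hom.appLE_comp_appLE, Scheme.Hom.appLE_comp_appLE]
      simp only [hip]
    refine (congrArg (fun m : Γ(Spec (CommRingCat.of (dual k k : Art k k)), ⊤) ⟶ Γ(X, V) => m.hom
      ((Scheme.ΓSpecIso (CommRingCat.of (dual k k : Art k k))).inv (HomTan3.eps k))) h1).trans ?_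
    show x.appLE ⊤ V le_top ((specRes (dual k k : Art k k)).appLE ⊤ ⊤ le_top
      ((Scheme.ΓSpecIso (CommRingCat.of (dual k k : Art k k))).inv (HomTan3.eps k))) = 0
    have h2 := ConcreteCategory.congr_hom (Scheme.ΓSpecIso_inv_naturality
      (CommRingCat.ofHom (dual k k : Art k k).res.toRingHom)) (HomTan3.eps k)
    rw [show (specRes (dual k k : Art k k)).appLE ⊤ ⊤ le_top = (specRes (dual k k : Art k k)).appTop from by
      rw [Scheme.Hom.appTop, Scheme.Hom.app_eq_appLE]; rfl]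
    refine (congrArg _ h2.symm).trans ?_
    show x.appLE ⊤ V le_top ((Scheme.ΓSpecIso (CommRingCat.of k)).inv ((dual k k : Art k k).res (HomTan3.eps k))) = 0
    rw [HomTan3.res_eps, map_zero, map_zero]
  refine ⟨e, ⟨?_, fun U => ?_, fun U c => ?_, fun U => ?_⟩, hi, fun W V h => ?_⟩
  · rw [← map_mul, HomTan3.eps_sq, map_zero]
  · haveI : IsAffineHom q := MorphismProperty.of_isPullback (P := @IsAffineHom) hsq.flip
      (isAffineHom_of_isAffine (specOver (dual k k : Art k k)))
    exact U.2.preimage q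
  all_goals try
    (let j := hsq.isoPullback
     have jf : j.hom ≫ pullback.fst x (specOver (dual k k)) = q := hsq.isoPullback_hom_fst
     have js : j.hom ≫ XApr x (dual k k) = p := hsq.isoPullback_hom_snd
     have hle : q ⁻¹ᵁ U.1 = j.hom ⁻¹ᵁ (chart x (dual k k) U).1 := by rw [← jf]; rfl
     let J : Γ(XA x (dual k k), (chart x (dual k k) U).1) ⟶ Γ(Xe, q ⁻¹ᵁ U.1) :=
       j.hom.appLE (chart x (dual k k) U).1 (q ⁻¹ᵁ U.1) hle.le
     have hJ : Function.Bijective J.hom := by
       haveI : IsIso J := by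
         show IsIso (j.hom.app _ ≫ Xe.presheaf.map (homOfLE hle.le).op)
         haveI : IsIso (homOfLE hle.le) := ⟨homOfLE hle.ge, Subsingleton.elim _ _, Subsingleton.elim _ _⟩
         infer_instance
       exact ConcreteCategory.bijective_of_isIso J
     have hJι : ∀ a, J.hom (cι x (dual k k) U a) = q.appLE U.1 (q ⁻¹ᵁ U.1) le_rfl a := fun a => by
       have h1 : (pullback.fst x (specOver (dual k k))).appLE U.1 (chart x (dual k k) U).1 le_rfl ≫ J =
           q.appLE U.1 (q ⁻¹ᵁ U.1) le_rfl := by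
         rw [Scheme.Hom.appLE_comp_appLE]
         simp only [jf]
       refine Eq.trans ?_ (congrArg (fun m : Γ(X, U.1) ⟶ Γ(Xe, q ⁻¹ᵁ U.1) => m.hom a) h1)
       exact congrArg (fun m : Γ(X, U.1) ⟶ Γ(XA x (dual k k), (chart x (dual k k) U).1) => J.hom (m.hom a))
         (Scheme.Hom.app_eq_appLE _)
     have hJσ : J.hom (cσ x (dual k k) U (HomTan3.eps k)) = Xe.presheaf.map (homOfLE (le_top : q ⁻¹ᵁ U.1 ≤ ⊤)).op e := by
       rw [he]
       have h1 : (XApr x (dual k k)).appLE ⊤ (chart x (dual k k) U).1 le_top ≫ J = p.appLE ⊤ (q ⁻¹ᵁ U.1) le_top := by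
         rw [Scheme.Hom.appLE_comp_appLE]
         simp only [js]
       exact congrArg (fun m : Γ(Spec (CommRingCat.of (dual k k : Art k k)), ⊤) ⟶ Γ(Xe, q ⁻¹ᵁ U.1) => m.hom
         ((Scheme.ΓSpecIso (CommRingCat.of (dual k k : Art k k))).inv (HomTan3.eps k))) h1)
  · obtain ⟨z, rfl⟩ := hJ.2 c
    refine ⟨cι₀ x (dual k k) U z, ddS x U z, ?_⟩
    conv_lhs => rw [ddS_spec x U z]
    rw [map_add, map_mul, hJι, hJι, hJσ]
  · let Je := RingEquiv.ofBijective J.hom hJ
    refine ⟨(ddS x U).comp Je.symm.toAddEquiv.toAddMonoidHom, fun a c => ?_, fun a => ?_, fun r => ?_⟩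
    · obtain ⟨z, rfl⟩ := Je.surjective c
      show ddS x U (Je.symm (q.appLE U.1 _ le_rfl a * Je z)) = a * ddS x U (Je.symm (Je z))
      rw [← hJι, show J.hom (cι x (dual k k) U a) = Je (cι x (dual k k) U a) from rfl, ← map_mul,
        Je.symm_apply_apply, Je.symm_apply_apply, ddS_mul, ddS_cι, cι₀_cι, mul_zero, add_zero]
    · show ddS x U (Je.symm _) = 0
      rw [← hJι, show J.hom (cι x (dual k k) U a) = Je (cι x (dual k k) U a) from rfl, Je.symm_apply_apply, ddS_cι]
    · show ddS x U (Je.symm _) = r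
      rw [← hJι, ← hJσ, ← map_mul, show J.hom (cσ x (dual k k) U (HomTan3.eps k) * cι x (dual k k) U r) =
        Je (cσ x (dual k k) U (HomTan3.eps k) * cι x (dual k k) U r) from rfl, Je.symm_apply_apply]
      exact ddS_eq x U (a := 0) (by rw [map_zero, zero_add])
  · rw [← ConcreteCategory.comp_apply, Scheme.Hom.map_appLE]
    exact hi V

end Groth.Agent.InfAutMod3
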