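import Groth.Agent.Lib.InfAut3.Main
import Groth.Agent.Lib.ModLimH13.Sections
import Groth.Agent.Lib.GrpOmega.Sections
import Groth.Agent.Lib.QuotExt3.Pull

/-!
# Infinitesimal automorphisms of the pullback of a module to the trivial first-order thickening
-/

set_option autoImplicit false
set_option linter.style.haveILetI false
set_option backward.isDefEq.respectTransparency false
set_option backward.isDefEq.respectTransparency.types false

universe u

open CategoryTheory CategoryTheory.Limits AlgebraicGeometry Opposite TensorProduct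

namespace Groth.Agent.InfAutMod3

open Groth.Agent ModLimH13

/-- Multiplication by a global function. -/
noncomputable def sc {X : Scheme.{u}} (r : Γ(X, ⊤)) (N : X.Modules) : N ⟶ N where
  val :=
    { app := fun U => ModuleCat.ofHom (X := N.val.obj U) (Y := N.val.obj U)
        { toFun := fun m => (show Γ(N, U.unop) from
            X.presheaf.map (homOfLE (le_top : U.unop ≤ ⊤)).op r • (show Γ(N, U.unop) from m))
          map_add' := fun m m' => smul_add (X.presheaf.map (homOfLE (le_top : U.unop ≤ ⊤)).op r)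
            (show Γ(N, U.unop) from m) (show Γ(N, U.unop) from m')
          map_smul' := fun c m => smul_comm (X.presheaf.map (homOfLE (le_top : U.unop ≤ ⊤)).op r)
            (show Γ(X, U.unop) from c) (show Γ(N, U.unop) from m) }
      naturality := fun {U V} i => by
        refine ModuleCat.hom_ext (LinearMap.ext fun m => ?_)
        show X.presheaf.map (homOfLE (le_top : V.unop ≤ ⊤)).op r • M1.mres N (leOfHom i.unop) m =
          M1.mres N (leOfHom i.unop) (X.presheaf.map (homOfLE (le_top : U.unop ≤ ⊤)).op r • (show Γ(N, U.unop) from m))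
        rw [M1.mres_smul]
        congr 1
        rw [← ConcreteCategory.comp_apply, ← X.presheaf.map_comp]
        rfl }

theorem sc_app {X : Scheme.{u}} (r : Γ(X, ⊤)) (N : X.Modules) (U : X.Opens) (m : Γ(N, U)) :
    (sc r N).app U m = X.presheaf.map (homOfLE (le_top : U ≤ ⊤)).op r • m := rfl

theorem sc_comm {X : Scheme.{u}} (r : Γ(X, ⊤)) {N N' : X.Modules} (f : N ⟶ N') :
    sc r N ≫ f = f ≫ sc r N' := by
  refine Scheme.Modules.hom_ext _ _ fun U => ?_
  ext m
  show f.app U ((sc r N).app U m) = (sc r N').app U (f.app U m)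
  rw [sc_app, sc_app, Scheme.Modules.Hom.app_smul]

theorem sc_sq {X : Scheme.{u}} (r : Γ(X, ⊤)) (hr : r * r = 0) (N : X.Modules) : sc r N ≫ sc r N = 0 := by
  refine Scheme.Modules.hom_ext _ _ fun U => ?_
  ext m
  show (sc r N).app U ((sc r N).app U m) = 0
  rw [sc_app, sc_app, ← mul_smul, ← map_mul, hr, map_zero, zero_smul]

/-- Factorization through a morphism injective on sections, checked on affine opens. -/
theorem exists_factor {X : Scheme.{u}} {A B N : X.Modules} (m : B ⟶ N)
    (hm : ∀ U : X.Opens, Function.Injective (m.app U)) (ψ : A ⟶ N)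
    (h : ∀ (U : X.affineOpens) (s : Γ(A, U.1)), ∃ b, m.app U.1 b = ψ.app U.1 s) : ∃ θ : A ⟶ B, θ ≫ m = ψ := by
  have hall : ∀ (U : X.Opens) (s : Γ(A, U)), ∃ b, m.app U b = ψ.app U s := by
    intro U s
    let I := {V : X.affineOpens // V.1 ≤ U}
    choose b hb using fun i : I => h i.1 (M1.mres A i.2 s)
    have hcov : U ≤ ⨆ i : I, i.1.1 := fun p hp => by
      obtain ⟨V, hV, hpV, hVU⟩ := exists_isAffineOpen_mem_and_subset (show p ∈ U from hp)
      exact TopologicalSpace.Opens.mem_iSup.2 ⟨⟨⟨V, hV⟩, hVU⟩, hpV⟩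
    obtain ⟨t, ht, -⟩ := TopCat.Sheaf.existsUnique_gluing' ⟨B.presheaf, B.isSheaf⟩ (fun i : I => i.1.1) U
      (fun i => homOfLE i.2) hcov b (fun i j => by
        refine hm _ ?_
        show m.app _ (M1.mres B inf_le_left (b i)) = m.app _ (M1.mres B inf_le_right (b j))
        rw [M1.app_mres, M1.app_mres, hb, hb, M1.app_mres, M1.app_mres, M1.mres_mres, M1.mres_mres])
    refine ⟨t, ?_⟩
    refine TopCat.Sheaf.eq_of_locally_eq' ⟨N.presheaf, N.isSheaf⟩ (fun i : I => i.1.1) U (fun i => homOfLE i.2)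
      hcov _ _ fun i => ?_
    show M1.mres N i.2 (m.app U t) = M1.mres N i.2 (ψ.app U s)
    rw [← M1.app_mres, ← M1.app_mres, ← hb i]
    exact congrArg _ (ht i)
  choose b hb using hall
  refine ⟨{ val := { app := fun U => ModuleCat.ofHom (X := A.val.obj U) (Y := B.val.obj U)
                      { toFun := fun s => (show Γ(B, U.unop) from b U.unop (show Γ(A, U.unop) from s))
                        map_add' := fun s s' => hm _ (by rw [hb, map_add, map_add]; exact congrArg₂ (· + ·) (hb _ _).symm (hb _ _).symm)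
                        map_smul' := fun c s => hm _ (by
                          show m.app U.unop (b U.unop ((show Γ(X, U.unop) from c) • (show Γ(A, U.unop) from s))) =
                            m.app U.unop ((show Γ(X, U.unop) from c) • b U.unop s)
                          rw [hb, Scheme.Modules.Hom.app_smul, Scheme.Modules.Hom.app_smul, hb]) }
                     naturality := fun {U V} i => ModuleCat.hom_ext (LinearMap.ext fun s => hm _ (by
                          show m.app V.unop (b V.unop (M1.mres A (leOfHom i.unop) s)) =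
                            m.app V.unop (M1.mres B (leOfHom i.unop) (b U.unop s))
                          rw [hb, M1.app_mres, M1.app_mres, hb])) } }, ?_⟩
  refine Scheme.Modules.hom_ext _ _ fun U => ?_
  ext s
  exact hb U s

variable {X Xe : Scheme.{u}} {q : Xe ⟶ X} (E : X.Modules) [Coh.IsQCoh E]

/-- The data of a trivial first-order thickening. -/
structure Dual (q : Xe ⟶ X) (e : Γ(Xe, ⊤)) : Prop where
  sq : e * e = 0
  aff : ∀ U : X.affineOpens, IsAffineOpen (q ⁻¹ᵁ U.1)
  gen : ∀ (U : X.affineOpens) (c : Γ(Xe, q ⁻¹ᵁ U.1)), ∃ a r, c = q.appLE U.1 _ le_rfl a +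
    Xe.presheaf.map (homOfLE (le_top : q ⁻¹ᵁ U.1 ≤ ⊤)).op e * q.appLE U.1 _ le_rfl r
  coord : ∀ U : X.affineOpens, ∃ d : Γ(Xe, q ⁻¹ᵁ U.1) →+ Γ(X, U.1),
    (∀ a c, d (q.appLE U.1 _ le_rfl a * c) = a * d c) ∧ (∀ a, d (q.appLE U.1 _ le_rfl a) = 0) ∧
      ∀ r, d (Xe.presheaf.map (homOfLE (le_top : q ⁻¹ᵁ U.1 ≤ ⊤)).op e * q.appLE U.1 _ le_rfl r) = r

variable {e : Γ(Xe, ⊤)} (D : Dual q e)

include D in
theorem exists_decomp (U : X.affineOpens) (y : Γ((Scheme.Modules.pullback q).obj E, q ⁻¹ᵁ U.1)) :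
    ∃ a r, y = res' q E le_rfl a +
      Xe.presheaf.map (homOfLE (le_top : q ⁻¹ᵁ U.1 ≤ ⊤)).op e • res' q E (W := U.1) le_rfl r := by
  refine pullback_induction q E le_rfl U.2 (D.aff U) (p := fun y => ∃ a r, y = res' q E le_rfl a +
      Xe.presheaf.map (homOfLE (le_top : q ⁻¹ᵁ U.1 ≤ ⊤)).op e • res' q E (W := U.1) le_rfl r) ?_ ?_ ?_ y
  · refine ⟨0, 0, ?_⟩
    rw [show res' q E (W := U.1) (le_refl (q ⁻¹ᵁ U.1)) 0 = 0 from
      add_eq_left.1 ((res'_add q E le_rfl (0 : Γ(E, U.1)) 0).symm.trans (by rw [add_zero])), smul_zero, add_zero]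
  · rintro _ _ ⟨a, r, rfl⟩ ⟨a', r', rfl⟩
    refine ⟨a + a', r + r', ?_⟩
    rw [res'_add, res'_add, smul_add]
    abel
  · intro c s
    obtain ⟨a, r, rfl⟩ := D.gen U c
    exact ⟨a • s, r • s, by rw [res'_smul, res'_smul, add_smul, mul_smul]⟩

include D in
theorem eq_zero_of_smul (U : X.affineOpens) (r : Γ(E, U.1))
    (h : Xe.presheaf.map (homOfLE (le_top : q ⁻¹ᵁ U.1 ≤ ⊤)).op e • res' q E (W := U.1) (le_refl (q ⁻¹ᵁ U.1)) r = 0) :
    r = 0 := by
  obtain ⟨d, hd1, -, hd3⟩ := D.coord U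
  letI := (q.appLE U.1 (q ⁻¹ᵁ U.1) le_rfl).hom.toAlgebra
  obtain ⟨Φ, hΦ⟩ := exists_pullEquiv q E (le_refl (q ⁻¹ᵁ U.1)) U.2 (D.aff U)
  let b : Γ(Xe, q ⁻¹ᵁ U.1) →+ Γ(E, U.1) →+ Γ(E, U.1) :=
    AddMonoidHom.mk' (fun c => AddMonoidHom.mk' (fun s => d c • s) fun s s' => smul_add _ _ _)
      fun c c' => AddMonoidHom.ext fun s => by
        show d (c + c') • s = d c • s + d c' • s
        rw [map_add, add_smul]
  let F : Γ(Xe, q ⁻¹ᵁ U.1) ⊗[Γ(X, U.1)] Γ(E, U.1) →+ Γ(E, U.1) :=
    TensorProduct.liftAddHom b fun a c s => by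
      show d (q.appLE U.1 _ le_rfl a * c) • s = d c • a • s
      rw [hd1, mul_comm, mul_smul]
  rw [← hΦ] at h
  have h0 := (map_eq_zero_iff Φ Φ.injective).1 h
  have := congrArg F h0
  rw [map_zero] at this
  refine (?_ : r = _).trans this
  show r = d (Xe.presheaf.map (homOfLE (le_top : q ⁻¹ᵁ U.1 ≤ ⊤)).op e) • r
  have h1 := hd3 1
  rw [map_one, mul_one] at h1
  rw [h1, one_smul]

include D in
theorem exists_equiv (i : X ⟶ Xe) (hiq : i ≫ q = 𝟙 X)
    (hie : ∀ (U : X.affineOpens) (h : U.1 ≤ i ⁻¹ᵁ (q ⁻¹ᵁ U.1)),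
      i.appLE (q ⁻¹ᵁ U.1) U.1 h (Xe.presheaf.map (homOfLE (le_top : q ⁻¹ᵁ U.1 ≤ ⊤)).op e) = 0)
    (hi0 : ∀ (V : X.Opens), i.appLE ⊤ V le_top e = 0) :
    ∃ ε : {φ : (Scheme.Modules.pullback q).obj E ≅ (Scheme.Modules.pullback q).obj E //
            (Scheme.Modules.pullback i).map φ.hom = 𝟙 _} ≃ (E ⟶ E),
      ∀ φ ψ χ : {φ : (Scheme.Modules.pullback q).obj E ≅ (Scheme.Modules.pullback q).obj E //
            (Scheme.Modules.pullback i).map φ.hom = 𝟙 _},
        φ.1 ≪≫ ψ.1 = χ.1 → ε χ = ε φ + ε ψ := by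
  let P := (Scheme.Modules.pullback q).obj E
  let N : (E ⟶ E) → (P ⟶ P) := fun θ => (Scheme.Modules.pullback q).map θ ≫ sc e P
  haveI : (Scheme.Modules.pullback q).Additive := (Scheme.Modules.pullbackPushforwardAdjunction q).left_adjoint_additive
  haveI : (Scheme.Modules.pullback i).Additive := (Scheme.Modules.pullbackPushforwardAdjunction i).left_adjoint_additive
  have hN : ∀ (θ : E ⟶ E) (U : X.Opens) (s : Γ(E, U)), (N θ).app (q ⁻¹ᵁ U) (M2.pullSec q E s) =
      Xe.presheaf.map (homOfLE (le_top : q ⁻¹ᵁ U ≤ ⊤)).op e • M2.pullSec q E (θ.app U s) := fun θ U s => by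
    show (sc e P).app _ (((Scheme.Modules.pullback q).map θ).app _ (M2.pullSec q E s)) = _
    rw [sc_app, Amp.map_pullSec]
  have hNadd : ∀ a b, N (a + b) = N a + N b := fun a b => by
    show _ ≫ _ = _
    rw [Functor.map_add, Preadditive.add_comp]
  have hNmul : ∀ a b, N a ≫ N b = 0 := fun a b => by
    show (_ ≫ sc e P) ≫ _ ≫ sc e P = 0
    rw [Category.assoc, ← Category.assoc (sc e P), sc_comm, Category.assoc, sc_sq e D.sq, comp_zero, comp_zero]
  have hcomp : ∀ a b, (𝟙 P + N a) ≫ (𝟙 P + N b) = 𝟙 P + N (a + b) := fun a b => by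
    rw [Preadditive.add_comp, Preadditive.comp_add, Preadditive.comp_add, hNmul, hNadd, Category.id_comp,
      Category.id_comp, Category.comp_id]
    abel
  have hN0 : N 0 = 0 := by
    show _ ≫ _ = _
    rw [Functor.map_zero, zero_comp]
  have hNi : ∀ θ, (Scheme.Modules.pullback i).map (N θ) = 0 := fun θ => by
    show (Scheme.Modules.pullback i).map (_ ≫ sc e P) = 0
    rw [Functor.map_comp, show (Scheme.Modules.pullback i).map (sc e P) = 0 from
      QuotExt3.hom_ext_pull i _ _ fun U s => by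
        rw [Amp.map_pullSec, sc_app, M2.pullSec_smul]
        have h0 : i.app U (Xe.presheaf.map (homOfLE (le_top : U ≤ ⊤)).op e) = 0 := by
          rw [Scheme.Hom.app_eq_appLE, ← ConcreteCategory.comp_apply, Scheme.Hom.map_appLE]
          exact hi0 _
        rw [h0, zero_smul]
        rfl, comp_zero]
  let t : (E ⟶ E) → {φ : P ≅ P // (Scheme.Modules.pullback i).map φ.hom = 𝟙 _} := fun θ =>
    ⟨⟨𝟙 P + N θ, 𝟙 P + N (-θ), by rw [hcomp, add_neg_cancel, hN0, add_zero],
        by rw [hcomp, neg_add_cancel, hN0, add_zero]⟩, by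
      show (Scheme.Modules.pullback i).map (𝟙 P + N θ) = _
      rw [Functor.map_add, hNi, CategoryTheory.Functor.map_id, add_zero]⟩
  -- injectivity of multiplication by `e` on pulled back sections
  have hinj : ∀ (U : X.Opens) (s : Γ(E, U)),
      Xe.presheaf.map (homOfLE (le_top : q ⁻¹ᵁ U ≤ ⊤)).op e • M2.pullSec q E s = 0 → s = 0 := by
    intro U s hs
    let I := {V : X.affineOpens // V.1 ≤ U}
    have hcov : U ≤ ⨆ i : I, i.1.1 := fun p hp => by
      obtain ⟨V, hV, hpV, hVU⟩ := exists_isAffineOpen_mem_and_subset (show p ∈ U from hp)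
      exact TopologicalSpace.Opens.mem_iSup.2 ⟨⟨⟨V, hV⟩, hVU⟩, hpV⟩
    refine TopCat.Sheaf.eq_of_locally_eq' ⟨E.presheaf, E.isSheaf⟩ (fun i : I => i.1.1) U (fun i => homOfLE i.2)
      hcov _ _ fun V => ?_
    show M1.mres E V.2 s = M1.mres E V.2 0
    rw [map_zero]
    refine eq_zero_of_smul E D V.1 _ ?_
    have h1 := congrArg (M1.mres P (q.preimage_mono V.2)) hs
    rw [M1.mres_smul, map_zero] at h1
    rw [res'_mres]
    refine (Eq.trans ?_ h1)
    congr 1
    rw [← ConcreteCategory.comp_apply, ← Xe.presheaf.map_comp]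
    rfl
  have htb : Function.Bijective t := by
    refine ⟨fun a b hab => ?_, fun φ => ?_⟩
    · have h1 : N a = N b := add_left_cancel (congrArg (fun φ => φ.1.hom) hab)
      refine Scheme.Modules.hom_ext _ _ fun U => ?_
      ext s
      refine sub_eq_zero.1 (hinj U (a.app U s - b.app U s) ?_)
      have hsub : M2.pullSec q E (a.app U s - b.app U s) =
          M2.pullSec q E (a.app U s) - M2.pullSec q E (b.app U s) := by
        rw [eq_sub_iff_add_eq, ← M2.pullSec_add, sub_add_cancel]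
      rw [hsub, smul_sub, ← hN, ← hN, h1, sub_self]
    · let ψ : P ⟶ P := φ.1.hom - 𝟙 P
      have hψi : (Scheme.Modules.pullback i).map ψ = 0 := by
        rw [Functor.map_sub, φ.2, CategoryTheory.Functor.map_id, sub_self]
      let m : E ⟶ (Scheme.Modules.pushforward q).obj P :=
        (Scheme.Modules.pullbackPushforwardAdjunction q).unit.app E ≫ (Scheme.Modules.pushforward q).map (sc e P)
      let ψ' : E ⟶ (Scheme.Modules.pushforward q).obj P :=
        (Scheme.Modules.pullbackPushforwardAdjunction q).unit.app E ≫ (Scheme.Modules.pushforward q).map ψ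
      have hma : ∀ (U : X.Opens) (s : Γ(E, U)), m.app U s =
          Xe.presheaf.map (homOfLE (le_top : q ⁻¹ᵁ U ≤ ⊤)).op e • M2.pullSec q E s := fun U s => rfl
      obtain ⟨θ, hθ⟩ := exists_factor m (fun U s s' hss => sub_eq_zero.1 (hinj U _ (by
          rw [← hma]
          exact (map_sub (m.app U).hom s s').trans (sub_eq_zero.2 hss)))) ψ' (fun U s => by
        obtain ⟨a, r, har⟩ := exists_decomp E D U (ψ.app (q ⁻¹ᵁ U.1) (M2.pullSec q E s))
        have hle : U.1 ≤ i ⁻¹ᵁ (q ⁻¹ᵁ U.1) := fun p hp => by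
          show q (i p) ∈ U.1
          rw [← Scheme.Hom.comp_apply, hiq]; exact hp
        have hT : trans i q E hiq hle (ψ.app (q ⁻¹ᵁ U.1) (M2.pullSec q E s)) = 0 := by
          rw [ModLimH13.trans, ← map_res' i _ hle ψ, hψi]
          exact map_zero _
        rw [har, trans_add, trans_smul, hie U hle, zero_smul, add_zero] at hT
        have ha : a = 0 := by
          have h2 : res' (𝟙 X) E (W := U.1) (W' := U.1) le_rfl a = 0 := by
            rw [← hT]
            exact (cmp_res' i q E hiq le_rfl hle a).symm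
          refine (GrpOmega.bijective_pullSec_of_eq_id rfl E U.1).1 ?_
          refine Eq.trans ?_ (Eq.trans h2 ?_)
          · exact (M1.mres_id _ _ _).symm
          · refine ((add_eq_left (a := M2.pullSec (𝟙 X) E (0 : Γ(E, U.1)))).1 ?_).symm
            rw [← M2.pullSec_add, add_zero]
        refine ⟨r, ?_⟩
        rw [hma]
        show _ = ψ.app (q ⁻¹ᵁ U.1) (M2.pullSec q E s)
        rw [har, ha, show res' q E (W := U.1) (le_refl (q ⁻¹ᵁ U.1)) 0 = 0 from
          add_eq_left.1 ((res'_add q E le_rfl (0 : Γ(E, U.1)) 0).symm.trans (by rw [add_zero])), zero_add,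
          res', M1.mres_id])
      refine ⟨θ, Subtype.ext (Iso.ext ?_)⟩
      show 𝟙 P + N θ = φ.1.hom
      rw [show N θ = ψ from QuotExt3.hom_ext_pull q _ _ fun U s => by
        rw [hN, ← hma]
        exact congrArg (fun f : E ⟶ (Scheme.Modules.pushforward q).obj P => f.app U s) hθ]
      exact add_sub_cancel _ _
  refine ⟨(Equiv.ofBijective t htb).symm, fun φ ψ χ hc => ?_⟩
  obtain ⟨a, rfl⟩ := htb.2 φ
  obtain ⟨b, rfl⟩ := htb.2 ψ
  obtain ⟨c, rfl⟩ := htb.2 χ
  simp only [Equiv.ofBijective_symm_apply_apply]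
  refine htb.1 (Subtype.ext (Iso.ext ?_))
  show 𝟙 P + N c = 𝟙 P + N (a + b)
  rw [← hcomp]
  exact (congrArg Iso.hom hc).symm

end Groth.Agent.InfAutMod3
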